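import Groth.Agent.DecShCurve.TorsFree
import Groth.Agent.CohTwo.GrLocFree

/-!
Morphisms into torsion-free quasi-coherent modules vanishing on a dense open subscheme vanish.
-/

set_option autoImplicit false

universe u

open CategoryTheory CategoryTheory.Limits AlgebraicGeometry

namespace Groth.TFNodalAux

open TopologicalSpace in
/-- A nonzerodivisor whose basic open lies in a given dense open. -/
theorem exists_nzd_dense {X : Scheme.{u}} [IsLocallyNoetherian X] [IsReduced X] {W : X.Opens}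
    (hW : IsAffineOpen W) {U : X.Opens} (hU : Dense (U : Set X)) :
    ∃ r : Γ(X, W), r ∈ nonZeroDivisors Γ(X, W) ∧ X.basicOpen r ≤ U := by
  classical
  have : IsNoetherianRing Γ(X, W) := IsLocallyNoetherian.component_noetherian ⟨W, hW⟩
  have : _root_.IsReduced Γ(X, W) := IsReduced.component_reduced W
  let M := (minimalPrimes.finite_of_isNoetherianRing (R := Γ(X, W))).toFinset
  have hM : ∀ {q}, q ∈ M ↔ q ∈ minimalPrimes Γ(X, W) := Set.Finite.mem_toFinset _
  have hMp : ∀ q ∈ M, q.IsPrime := fun q hq => (hM.1 hq).1.1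
  let V : Set (PrimeSpectrum Γ(X, W)) := hW.fromSpec ⁻¹' (U : Set X)
  have hV : IsOpen V := U.isOpen.preimage hW.fromSpec.continuous
  obtain ⟨J, hJ⟩ := (PrimeSpectrum.isClosed_iff_zeroLocus_ideal _).1 hV.isClosed_compl
  have hJq : ∀ q ∈ M, ¬ J ≤ q := by
    intro q hq hle
    obtain ⟨f, hf, hfq⟩ : ∃ f, (∀ p ∈ M.erase q, f ∈ p) ∧ f ∉ q := by
      by_contra! hall
      obtain ⟨p, hp, hpq⟩ := (Ideal.IsPrime.inf_le' (hMp q hq) (s := M.erase q) (f := id)).1
        (fun f hf => hall f fun p hp => (Finset.inf_le (f := id) hp : _ ≤ p) hf)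
      obtain ⟨hne, hpM⟩ := Finset.mem_erase.1 hp
      exact hne (le_antisymm hpq ((hM.1 hq).2 ⟨hMp p hpM, bot_le⟩ hpq))
    let Q : PrimeSpectrum Γ(X, W) := ⟨q, hMp q hq⟩
    let D : Set (PrimeSpectrum Γ(X, W)) := (PrimeSpectrum.basicOpen f : Set _)
    obtain ⟨y, hyD, hyU⟩ := hU.inter_open_nonempty _
      (hW.fromSpec.isOpenEmbedding.isOpenMap D (PrimeSpectrum.basicOpen f).isOpen)
      ⟨hW.fromSpec Q, Set.mem_image_of_mem _ hfq⟩
    obtain ⟨P, hP, rfl⟩ := hyD
    obtain ⟨p, hp, hpP⟩ := Ideal.exists_minimalPrimes_le (I := ⊥) (J := P.asIdeal) bot_le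
    have hpq : p = q := by
      by_contra hne
      exact hP (hpP (hf p (Finset.mem_erase.2 ⟨hne, hM.2 hp⟩)))
    have hQP : Q ⤳ P := (PrimeSpectrum.le_iff_specializes Q P).1 (show q ≤ P.asIdeal from hpq ▸ hpP)
    have hQ : Q ∈ V := hQP.mem_open hV hyU
    have : Q ∈ Vᶜ := hJ ▸ (PrimeSpectrum.mem_zeroLocus Q J).2 hle
    exact this hQ
  have hsub : ¬ (J : Set Γ(X, W)) ⊆ ⋃ q ∈ (M : Set (Ideal Γ(X, W))), (q : Set Γ(X, W)) := by
    intro h
    obtain ⟨q, hq, hJle⟩ := (Ideal.subset_union_prime (f := id) ⊥ ⊥ fun q hq _ _ => hMp q hq).1 h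
    exact hJq q hq hJle
  obtain ⟨r, hrJ, hr⟩ := Set.not_subset.1 hsub
  refine ⟨r, mem_nonZeroDivisors_iff_right.2 fun y hy => ?_, fun x hx => ?_⟩
  · have : y ∈ nilradical Γ(X, W) := by
      rw [nilradical, ← Ideal.sInf_minimalPrimes, Ideal.mem_sInf]
      intro q hq
      exact (Ideal.IsPrime.mem_or_mem hq.1.1 (hy ▸ q.zero_mem : y * r ∈ q)).resolve_right
        fun h => hr (Set.mem_biUnion (hM.2 hq) h)
    rw [nilradical_eq_zero] at this
    exact this
  · rw [← hW.fromSpec_image_basicOpen] at hx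
    obtain ⟨P, hP, rfl⟩ := hx
    by_contra hPU
    have hPV : P ∈ PrimeSpectrum.zeroLocus (J : Set Γ(X, W)) := hJ ▸ (hPU : P ∈ Vᶜ)
    exact hP ((PrimeSpectrum.mem_zeroLocus P J).1 hPV hrJ)

/-- A morphism to a torsion-free module with zero stalks on a dense open vanishes. -/
theorem hom_eq_zero_of_stalk {X : Scheme.{u}} [IsLocallyNoetherian X] [IsReduced X]
    {K G : X.Modules} (hG : Coh.IsQCoh G) (ht : TorSh.IsTorsionFree G) {U : X.Opens}
    (hU : Dense (U : Set X)) (g : K ⟶ G)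
    (h0 : ∀ y ∈ U, ∀ a : K.presheaf.stalk y, Groth.KTheory.LocFree.stalkₗ g y a = 0) : g = 0 := by
  have hz : ∀ (V : X.Opens), V ≤ U → ∀ m : Γ(K, V), g.app V m = 0 := fun V hV m => by
    refine Groth.Misc1.TorSh.eq_zero_of_germ G _ fun y hy => ?_
    exact (Groth.QCohMod.stalk_map_germ g y hy m).symm.trans
      (h0 y (hV hy) (Groth.QCohMod.germ K y hy m))
  refine Scheme.Modules.hom_ext _ _ fun V => ?_
  ext m
  refine Groth.Misc1.TorSh.eq_zero_of_germ G _ fun x hx => ?_
  obtain ⟨W, hW, hxW, hWV⟩ := exists_isAffineOpen_mem_and_subset (X := X) (x := x) (U := V) hx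
  obtain ⟨r, hr, hrU⟩ := exists_nzd_dense hW hU
  have hWV' : W ≤ V := hWV
  let s : Γ(G, W) := G.presheaf.map (homOfLE hWV').op (g.app V m)
  have hnat : ∀ {A B : X.Opens} (h : A ≤ B) (y : Γ(K, B)),
      g.app A (K.presheaf.map (homOfLE h).op y) = G.presheaf.map (homOfLE h).op (g.app B y) :=
    fun {A B} h y => ConcreteCategory.congr_hom
      (((Scheme.Modules.toPresheaf X).map g).naturality (homOfLE h).op) y
  have h1 : G.presheaf.map (homOfLE (X.basicOpen_le r)).op s = 0 := by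
    show G.presheaf.map (homOfLE (X.basicOpen_le r)).op
      (G.presheaf.map (homOfLE hWV').op (g.app V m)) = 0
    rw [← hnat hWV', ← hnat (X.basicOpen_le r)]
    exact hz _ hrU _
  obtain ⟨n, hn⟩ := Groth.Divisors.exists_pow_smul_eq_zero hW hG r s h1
  have hg : G.presheaf.germ W x hxW s = G.presheaf.germ V x hx (g.app V m) :=
    G.presheaf.germ_res_apply (homOfLE hWV') x hxW _
  rw [← hg]
  have hreg : IsRegular (X.presheaf.germ W x hxW r ^ n) :=
    (isRegular_iff_mem_nonZeroDivisors.2 (Groth.RefRank.MeroTotal.germ_nzd hW hr ⟨x, hxW⟩)).pow n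
  have := ht x
  refine Module.IsTorsionFree.isSMulRegular hreg ?_
  show _ • _ = _ • (0 : G.presheaf.stalk x)
  rw [smul_zero, ← map_pow, ← Groth.Divisors.germ_smul_mod hxW G (r ^ n) s, hn, map_zero]

/-- Locally free modules are torsion free. -/
theorem isTorsionFree_of_isFinLocFree {X : Scheme.{u}} {M : X.Modules}
    (h : FlatMod.IsFinLocFree M) : TorSh.IsTorsionFree M := fun x => by
  have := Groth.KTheory.LocFree.free_stalk h x
  infer_instance

end Groth.TFNodalAux
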